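import Mathlib

set_option autoImplicit false

namespace Cfsg.Agent.Perm1

open Equiv Equiv.Perm

/-- A permutation with `c` cycles of length `p`. -/
theorem exists_perm_pow_eq_one (α : Type*) [Fintype α] [DecidableEq α] {p : ℕ} (hp : p.Prime) (c : ℕ)
    (h : c * p ≤ Fintype.card α) : ∃ σ : Perm α, σ ^ p = 1 ∧ σ.support.card = c * p := by
  have := Fact.mk hp
  obtain ⟨σ, hσ⟩ := (exists_with_cycleType_iff α (m := Multiset.replicate c p)).mpr
    ⟨by simpa using h, fun a ha => by rw [Multiset.eq_of_mem_replicate ha]; exact hp.two_le⟩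
  refine ⟨σ, pow_prime_eq_one_iff.mpr (fun a ha => ?_), ?_⟩
  · rw [hσ] at ha; exact Multiset.eq_of_mem_replicate ha
  · rw [← sum_cycleType, hσ]; simp

theorem orderOf_eq_of_pow_eq_one {α : Type*} [Fintype α] [DecidableEq α] {p : ℕ} (hp : p.Prime)
    {σ : Perm α} (h : σ ^ p = 1) (hs : σ.support.card ≠ 0) : orderOf σ = p := by
  have := Fact.mk hp
  apply orderOf_eq_prime h
  rintro rfl
  simp at hs

theorem dvd_card_support {α : Type*} [Fintype α] [DecidableEq α] {p : ℕ} (hp : p.Prime)
    {σ : Perm α} (h : σ ^ p = 1) : p ∣ σ.support.card := by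
  have := Fact.mk hp
  rw [← sum_cycleType, cycleType_of_pow_prime_eq_one h]
  simp

theorem isConj_of_pow_eq_one {α : Type*} [Fintype α] [DecidableEq α] {p : ℕ} (hp : p.Prime)
    {σ τ : Perm α} (hσ : σ ^ p = 1) (hτ : τ ^ p = 1) (h : σ.support.card = τ.support.card) :
    IsConj σ τ := by
  have := Fact.mk hp
  rw [isConj_iff_cycleType_eq]
  rw [← sum_cycleType, ← sum_cycleType, cycleType_of_pow_prime_eq_one hσ,
    cycleType_of_pow_prime_eq_one hτ] at h
  simp only [Multiset.sum_replicate, smul_eq_mul] at h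
  rw [cycleType_of_pow_prime_eq_one hσ, cycleType_of_pow_prime_eq_one hτ,
    Nat.eq_of_mul_eq_mul_right hp.pos h]

theorem card_support_permCongr {α β : Type*} [Fintype α] [DecidableEq α] [Fintype β] [DecidableEq β]
    (e : α ≃ β) (σ : Perm α) : (Perm.support (e.permCongr σ)).card = σ.support.card := by
  symm
  apply Finset.card_bij (fun x _ => e x)
  · intro x hx
    rw [mem_support] at hx ⊢
    simpa using hx
  · intro x _ y _ h; exact e.injective h
  · intro y hy
    refine ⟨e.symm y, ?_, by simp⟩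
    rw [mem_support] at hy ⊢
    intro h
    apply hy
    simp [h]

theorem permCongr_pow {α β : Type*} (e : α ≃ β) (σ : Perm α) (n : ℕ) :
    (e.permCongr σ : Perm β) ^ n = e.permCongr (σ ^ n) := (map_pow e.permCongrHom σ n).symm

/-- Two permutations of exponent `p` on sets of the same size and with supports of the same size
are similar. -/
theorem exists_equiv_of_pow_eq_one {α β : Type*} [Fintype α] [DecidableEq α] [Fintype β] [DecidableEq β]
    {p : ℕ} (hp : p.Prime) {σ : Perm α} {τ : Perm β} (hσ : σ ^ p = 1) (hτ : τ ^ p = 1)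
    (hc : Fintype.card α = Fintype.card β) (h : σ.support.card = τ.support.card) :
    ∃ e : α ≃ β, ∀ x, e (σ x) = τ (e x) := by
  let e0 := Fintype.equivOfCardEq hc
  have h1 : (e0.permCongr σ : Perm β) ^ p = 1 := by
    rw [permCongr_pow, hσ]; ext; simp
  obtain ⟨c, hc⟩ := isConj_iff.mp (isConj_of_pow_eq_one hp h1 hτ (by rw [card_support_permCongr, h]))
  refine ⟨e0.trans c, fun x => ?_⟩
  rw [← hc]
  simp

/-- The number of moved points in an invariant set is a multiple of `p`. -/
theorem dvd_card_moved {α : Type*} [Fintype α] [DecidableEq α] {p : ℕ} (hp : p.Prime)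
    {σ : Perm α} (h : σ ^ p = 1) (s : Finset α) (hs : ∀ x, σ x ∈ s ↔ x ∈ s) :
    p ∣ (s.filter (fun x => σ x ≠ x)).card := by
  have h1 : (σ.subtypePerm hs) ^ p = 1 := by
    rw [subtypePerm_pow]
    ext x
    simp [h]
  have h2 := dvd_card_support hp h1
  convert h2 using 1
  symm
  apply Finset.card_bij (fun x _ => x.1)
  · intro x hx
    rw [mem_support] at hx
    simp only [Finset.mem_filter]
    exact ⟨x.2, fun h => hx (Subtype.ext h)⟩
  · intro x _ y _ h; exact Subtype.ext h
  · intro y hy
    simp only [Finset.mem_filter] at hy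
    exact ⟨⟨y, hy.1⟩, mem_support.mpr (fun h => hy.2 (congrArg Subtype.val h)), rfl⟩

theorem mem_iff_of_image_eq {α : Type*} [DecidableEq α] {σ : Perm α} {s : Finset α}
    (h : s.image σ = s) (x : α) : σ x ∈ s ↔ x ∈ s := by
  constructor
  · intro hx
    rw [← h, Finset.mem_image] at hx
    obtain ⟨y, hy, hyx⟩ := hx
    rwa [← σ.injective hyx]
  · intro hx
    rw [← h]; exact Finset.mem_image_of_mem _ hx

theorem image_eq_of_mem_iff {α : Type*} [DecidableEq α] {σ : Perm α} {s : Finset α}
    (h : ∀ x, σ x ∈ s ↔ x ∈ s) : s.image σ = s := by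
  ext x
  rw [Finset.mem_image]
  constructor
  · rintro ⟨y, hy, rfl⟩; exact (h y).mpr hy
  · intro hx
    exact ⟨σ.symm x, (h _).mp (by simpa using hx), by simp⟩

theorem card_support_sumCongr {α β : Type*} [Fintype α] [DecidableEq α] [Fintype β] [DecidableEq β]
    (σ : Perm α) (τ : Perm β) : (Perm.support (Perm.sumCongr σ τ)).card = σ.support.card + τ.support.card := by
  rw [← Finset.card_disjSum]
  congr 1
  ext x
  rcases x with x | x <;> simp

/-- When does a permutation of prime order with `c` cycles fix a `k`-subset? -/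
theorem exists_invariant_subset_iff {α : Type*} [Fintype α] [DecidableEq α] {p : ℕ} (hp : p.Prime)
    {σ : Perm α} (h : σ ^ p = 1) {c k : ℕ} (hc : σ.support.card = c * p) (hk : k ≤ Fintype.card α) :
    (∃ s : Finset α, s.card = k ∧ ∀ x, σ x ∈ s ↔ x ∈ s) ↔ c ≤ k / p + (Fintype.card α - k) / p := by
  constructor
  · rintro ⟨s, hsk, hs⟩
    obtain ⟨i, hi⟩ := dvd_card_moved hp h s hs
    obtain ⟨j, hj⟩ := dvd_card_moved hp h sᶜ (fun x => by simp [hs x])
    have h1 : p * i ≤ k := by rw [← hi, ← hsk]; exact Finset.card_filter_le _ _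
    have h2 : p * j ≤ Fintype.card α - k := by
      rw [← hj, ← hsk, ← Finset.card_compl]; exact Finset.card_filter_le _ _
    have h3 : σ.support.card = p * i + p * j := by
      rw [← hi, ← hj, ← Finset.card_union_of_disjoint (Finset.disjoint_filter_filter disjoint_compl_right),
        ← Finset.filter_union, Finset.union_compl]
      rfl
    have h4 : c = i + j := by
      apply Nat.eq_of_mul_eq_mul_left hp.pos
      rw [mul_comm, ← hc, h3, mul_add]
    have h5 : i ≤ k / p := (Nat.le_div_iff_mul_le hp.pos).mpr (by rwa [mul_comm])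
    have h6 : j ≤ (Fintype.card α - k) / p := (Nat.le_div_iff_mul_le hp.pos).mpr (by rwa [mul_comm])
    omega
  · intro hle
    obtain ⟨i, j, hij, hi, hj⟩ : ∃ i j, c = i + j ∧ i ≤ k / p ∧ j ≤ (Fintype.card α - k) / p := by
      generalize k / p = u at *
      generalize (Fintype.card α - k) / p = v at *
      exact ⟨min c u, c - min c u, by omega, by omega, by omega⟩
    obtain ⟨ρ1, h1, h1'⟩ := exists_perm_pow_eq_one (Fin k) hp i
      (by rw [Fintype.card_fin]; exact (Nat.le_div_iff_mul_le hp.pos).mp hi)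
    obtain ⟨ρ2, h2, h2'⟩ := exists_perm_pow_eq_one (Fin (Fintype.card α - k)) hp j
      (by rw [Fintype.card_fin]; exact (Nat.le_div_iff_mul_le hp.pos).mp hj)
    have h3 : (Perm.sumCongr ρ1 ρ2) ^ p = 1 := by
      have := map_pow (Perm.sumCongrHom _ _) (ρ1, ρ2) p
      rw [Prod.pow_mk, h1, h2] at this
      rw [← Perm.sumCongr_one]
      exact this.symm
    obtain ⟨e, he⟩ := exists_equiv_of_pow_eq_one hp h h3 (by simp; omega)
      (by rw [card_support_sumCongr, h1', h2', hc, hij, add_mul])
    refine ⟨Finset.univ.image (fun x : Fin k => e.symm (Sum.inl x)), ?_, fun x => ?_⟩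
    · rw [Finset.card_image_of_injective _ (fun x y hxy => by simpa using hxy)]
      simp
    simp only [Finset.mem_image, Finset.mem_univ, true_and, Equiv.symm_apply_eq, he]
    rcases e x with y | y <;> simp

end Cfsg.Agent.Perm1
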